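import Cfsg.Agent.Lib.D4S.BR4
import Cfsg.Agent.Lib.D4S.FPA
import Cfsg.Agent.Lib.D4S.UA
import Cfsg.Agent.Lib.D4S.CX
import Cfsg.Agent.Lib.G2S.BR2
import Cfsg.Agent.Lib.G2S.FPA

/-! The Sylow 2-subgroups of `G₂(q)` and `³D₄(q)` in coordinates. -/

set_option autoImplicit false
set_option linter.unusedSectionVars false

namespace H9.SyQ

open Subgroup H69 H89.D4S H89.D4S.U12 Cfsg Cfsg.Lie

/-- The trivial cubic structure. -/
@[reducible] def cubT (F : Type*) [Field F] [CharP F 2] : Cub F F where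
  ι := RingHom.id F
  θ := RingHom.id F
  T := AddMonoidHom.id F
  N := powMonoidHom 3
  ι_inj := Function.injective_id
  θ3 _ := rfl
  θι _ := rfl
  ιT x := by simp [CharTwo.add_self_eq_zero]
  ιN x := by simp [pow_succ]
  nd x h := by simpa using h 1

theorem mod_of {W H : Type*} [Group W] [Group H] [Finite H] {L : Subgroup H} {X : Type*} [Group X] (φ : W →* H)
    (hi : Function.Injective φ) (h : IsSylowIn 2 φ.range L) (e : L ≃* X) :
    ∃ ψ : W →* X, Function.Injective ψ ∧ IsSylowIn 2 ψ.range ⊤ := by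
  let f := φ.codRestrict L fun x => h.le ⟨x, rfl⟩
  have hf : f.range = φ.range.subgroupOf L := by
    ext x
    exact ⟨fun ⟨y, k⟩ => ⟨y, congrArg Subtype.val k⟩, fun ⟨y, k⟩ => ⟨y, Subtype.ext k⟩⟩
  refine ⟨e.toMonoidHom.comp f, e.injective.comp fun x y k => hi (congrArg Subtype.val k), ?_⟩
  rw [MonoidHom.range_comp, hf, ← map_top_of_surjective e.toMonoidHom e.surjective]
  exact h.subgroupOf_top.map _

theorem mod_G2 (F : Type*) [Field F] [Fintype F] [CharP F 2] (h4 : 4 ≤ Nat.card F) :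
    letI := cubT F
    ∃ ψ : U12 F →* chevG2.group F, Function.Injective ψ ∧ IsSylowIn 2 ψ.range ⊤ := by
  letI := cubT F
  obtain ⟨P, -, hL⟩ := H89.G2S.exists_fp h4
  let j : U12 F ≃* H89.G2S.U6 F :=
    { toFun u := ⟨u.p0, u.p5, u.p4, u.p2, u.p1, u.p3⟩
      invFun u := ⟨u.p0, u.p5, u.p4, u.p2, u.p1, u.p3⟩
      left_inv _ := rfl
      right_inv _ := rfl
      map_mul' x y := by
        have h1 : ∀ a : F, (ι a : F) = a := fun _ => rfl
        have h2 : ∀ a : F, θ a = a := fun _ => rfl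
        have h3 : ∀ a : F, T a = a := fun _ => rfl
        have h4 : ∀ a : F, N a = a ^ 3 := fun _ => rfl
        ext <;> simp [sh, cr, h1, h2, h3, h4] <;> grind }
  refine ⟨P.φ.comp j.toMonoidHom, P.inj.comp j.injective, ?_⟩
  rw [MonoidHom.range_comp, MonoidHom.range_eq_top.2 j.surjective, ← MonoidHom.range_eq_map, ← hL]
  exact P.sylU

variable {F E F' E' : Type*} [Field F] [Field E] [Cub F E] [CharP F 2] [CharP E 2] [Finite F]
  [Field F'] [Field E'] [Cub F' E'] [CharP F' 2] [CharP E' 2] [Finite F']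

theorem mod_D4 [Fintype E] (hc : Nat.card E = Nat.card F ^ 3) :
    ∃ ψ : U12 E →* twistedD4 E (Nat.card F), Function.Injective ψ ∧ IsSylowIn 2 ψ.range ⊤ := by
  obtain ⟨P, -, ⟨e⟩⟩ := exists_fp hc
  exact mod_of P.φ P.inj P.sylU e

theorem card_U12 : Nat.card (U12 E) = (Nat.card E * Nat.card F) ^ 3 := by
  rw [← Nat.card_prod, pow_succ, sq, ← Nat.card_prod, ← Nat.card_prod]
  exact Nat.card_congr ⟨fun u => (((u.p0, u.p5), (u.p4, u.p1)), (u.p2, u.p3)),
    fun v => ⟨v.1.1.1, v.1.1.2, v.1.2.1, v.2.1, v.1.2.2, v.2.2⟩, fun _ => rfl, fun _ => rfl⟩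

theorem card_center_U12 : Nat.card (center (U12 E)) = Nat.card F :=
  (Nat.card_congr (⟨fun c => ⟨g3 c, mem_center_iff.2 fun u => (g3_comm c u).symm⟩, fun u => u.1.p3,
    fun _ => rfl, fun u => Subtype.ext (by
      obtain ⟨c, e⟩ := mem_Z'.1 (mem_Z_of_comm fun v => (mem_center_iff.1 u.2 v).symm)
      change g3 u.1.p3 = _
      rw [e]; rfl)⟩ : F ≃ center (U12 E))).symm

/-- The parameters are determined by the group. -/
theorem mod_par {G : Type*} [Group G] [Finite G] {φ : U12 E →* G} {ψ : U12 E' →* G}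
    (h1 : Function.Injective φ) (h2 : IsSylowIn 2 φ.range ⊤) (h3 : Function.Injective ψ)
    (h4 : IsSylowIn 2 ψ.range ⊤) : Nat.card F = Nat.card F' ∧ Nat.card E = Nat.card E' := by
  obtain ⟨g, -, k⟩ := h2.conj h4
  have e : U12 E ≃* U12 E' := (MonoidHom.ofInjective h1).trans ((((MulAut.conj g).subgroupMap _).trans
    (MulEquiv.subgroupCongr k)).trans (MonoidHom.ofInjective h3).symm)
  have a : Nat.card F = Nat.card F' := by
    rw [← card_center_U12 (E := E), ← card_center_U12 (E := E')]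
    exact Nat.card_congr (centerCongr e).toEquiv
  have b := Nat.card_congr e.toEquiv
  rw [card_U12, card_U12, a, Nat.pow_left_inj three_ne_zero] at b
  exact ⟨a, Nat.eq_of_mul_eq_mul_right Nat.card_pos b⟩

end H9.SyQ
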